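import Cfsg.Agent.H993.OC.LieAll
import Cfsg.Agent.H287.OC.D4Row

/-!
# S4891, defining characteristic: the field `lie` (helper993)
-/

set_option autoImplicit false
open Cfsg
namespace Cfsg.Agent.H993.OC
open Cfsg.Agent.H145.BR

/-- all rows in defining characteristic, `p` odd -/
theorem ocRows {p : ℕ} [Fact p.Prime] (hp2 : p ≠ 2) : OCRows p :=
  ocRows_of_o8 hp2 fun h F _ _ _ => H287.OC.o8 h F

/-- **the field `lie`** of `H145.BR.Rows`, `p` odd -/
theorem lie {p : ℕ} [Fact p.Prime] (hp2 : p ≠ 2) : RowFor p (fun X _ => IsLieTypeChar p X) := (ocRows hp2).lie hp2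

end Cfsg.Agent.H993.OC
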