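import Cfsg.Agent.H145.BR.Defs
import Cfsg.Agent.H684.LieGood
import Cfsg.Agent.H684.SzRee

/-!
# S4891, defining characteristic: the target of the rows (helper993)

* `Wt p S A θ` : `θ` is an irreducible `p`-rational character `≠ 1` of degree prime to `p`, invariant under `A`;
* `OCRow p S` : for every `p`-group `A` of automorphisms there is a `θ` with `Wt p S A θ`;
* `mem_b0` : in defining characteristic the characters of degree prime to `p` lie in the principal block;
* `OCRow.rowT` : `OCRow p X → RowT p X`;  `OCRow.of_equiv`, `Wt.of_equiv`.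
-/

set_option autoImplicit false

open Cfsg

namespace Cfsg.Agent.H993.OC

open Cfsg.Agent.H145.BR Cfsg.Agent.Characters

universe u v

/-- an irreducible `p`-rational character `≠ 1` of degree prime to `p`, invariant under `A` -/
def Wt (p : ℕ) (S : Type u) [Group S] (A : Subgroup (MulAut S)) (θ : S → ℂ) : Prop :=
  IsIrrCharacter S θ ∧ θ ≠ 1 ∧ (∃ d : ℕ, θ 1 = d ∧ ¬ p ∣ d) ∧ PRat p θ ∧ ∀ a ∈ A, ∀ x, θ (a x) = θ x

/-- **the row** in defining characteristic -/
def OCRow (p : ℕ) (S : Type u) [Group S] : Prop :=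
  ∀ A : Subgroup (MulAut S), IsPGroup p A → ∃ θ, Wt p S A θ

theorem Wt.of_equiv {p : ℕ} {S : Type u} [Group S] {X : Type v} [Group X] (e : X ≃* S) {A : Subgroup (MulAut X)}
    {θ : S → ℂ} (h : Wt p S (A.map (MulAut.congr e).toMonoidHom) θ) : Wt p X A (fun x => θ (e x)) := by
  obtain ⟨h1, h2, ⟨d, h3, h3'⟩, ⟨n, h4, h4'⟩, h5⟩ := h
  refine ⟨Core.isIrr_comp e.toMonoidHom e.surjective h1, fun h => h2 (funext fun s => ?_), ⟨d, ?_, h3'⟩,
    ⟨n, h4, fun g => h4' (e g)⟩, fun a ha x => ?_⟩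
  · have := congrFun h (e.symm s)
    simpa using this
  · change θ (e 1) = d
    rw [map_one, h3]
  · have h6 := h5 (MulAut.congr e a) ⟨a, ha, rfl⟩ (e x)
    have h7 : (MulAut.congr e a) (e x) = e (a x) := by
      change e (a (e.symm (e x))) = _
      rw [MulEquiv.symm_apply_apply]
    rw [h7] at h6
    exact h6

theorem OCRow.of_equiv {p : ℕ} {S : Type u} [Group S] {X : Type v} [Group X] (e : X ≃* S) (h : OCRow p S) :
    OCRow p X := by
  intro A hA
  obtain ⟨θ, hθ⟩ := h (A.map (MulAut.congr e).toMonoidHom) (hA.map _)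
  exact ⟨_, Wt.of_equiv e hθ⟩

/-- a Sylow `p`-subgroup has a `p`-group as centralizer -/
theorem exists_cent {p : ℕ} [Fact p.Prime] (hp2 : p ≠ 2) {X : Type} [Group X] [Finite X] [IsSimpleGroup X]
    (hna : ¬ IsMulCommutative X) (hX : IsLieTypeChar p X) :
    ∃ U : Subgroup X, IsPGroup p U ∧ IsPGroup p (Subgroup.centralizer (U : Set X)) := by
  classical
  have hc : ∃ a b : X, a * b ≠ b * a := by
    by_contra h
    push Not at h
    exact hna ⟨⟨h⟩⟩
  have hZ : Subgroup.center X = ⊥ := H684.DefChar.center_eq_bot hc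
  have main : KFacts.RgdLieCharP.IsLieFilt p X → ∃ U : Subgroup X, IsPGroup p U ∧
      IsPGroup p (Subgroup.centralizer (U : Set X)) := by
    intro hL
    obtain ⟨D, hD⟩ := H684.LieGood.exists_good p (Nat.card X)
    obtain ⟨U, B, -, -, hU, -, -, hR, -⟩ := hD X hc (fun x i hx => by
      have h1 : p ^ i ≤ Nat.card X := hx ▸ orderOf_le_card
      exact (Nat.lt_pow_self (Fact.out : p.Prime).one_lt).trans_le h1) hL
    exact ⟨U, hU, H684.DefChar.isPGroup_centralizer_self hZ hR⟩
  rcases hX with h | h | h | h | h | h | h | h | ⟨h, -⟩ | ⟨h, -⟩ | ⟨h3, hR⟩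
  · exact main (Or.inl h)
  · exact main (Or.inr (Or.inl h))
  · exact main (Or.inr (Or.inr (Or.inl h)))
  · exact main (Or.inr (Or.inr (Or.inr (Or.inl h))))
  · exact main (Or.inr (Or.inr (Or.inr (Or.inr (Or.inl h)))))
  · exact main (Or.inr (Or.inr (Or.inr (Or.inr (Or.inr (Or.inl h))))))
  · exact main (Or.inr (Or.inr (Or.inr (Or.inr (Or.inr (Or.inr (Or.inl h)))))))
  · exact main (Or.inr (Or.inr (Or.inr (Or.inr (Or.inr (Or.inr (Or.inr h)))))))
  · exact absurd h hp2
  · exact absurd h hp2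
  · subst h3
    obtain ⟨K, _, _, m, -, hm, ⟨e⟩⟩ := hR
    have : Nontrivial ↥(Cfsg.Lie.twistedG2 K (3 ^ m)) := e.injective.nontrivial
    have : IsSimpleGroup ↥(Cfsg.Lie.twistedG2 K (3 ^ m)) := IsSimpleGroup.isSimpleGroup_of_surjective e.toMonoidHom e.surjective
    have : Finite ↥(Cfsg.Lie.twistedG2 K (3 ^ m)) := Finite.of_equiv _ e.toEquiv
    have hc' : ∃ a b : ↥(Cfsg.Lie.twistedG2 K (3 ^ m)), a * b ≠ b * a := by
      obtain ⟨a, b, hab⟩ := hc
      exact ⟨e a, e b, fun h => hab (e.injective (by rw [map_mul, map_mul, h]))⟩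
    obtain ⟨U, B, -, -, hU, -, -, hR, -⟩ := H684.SzRee.goodB_ree hm
    have h1 := H684.DefChar.isPGroup_centralizer_self (H684.DefChar.center_eq_bot hc') hR
    refine ⟨U.comap e.toMonoidHom, hU.comap_of_injective _ e.injective, ?_⟩
    refine (h1.comap_of_injective e.toMonoidHom e.injective).to_le fun x hx => ?_
    rw [Subgroup.mem_comap, Subgroup.mem_centralizer_iff]
    intro u hu
    rw [Subgroup.mem_centralizer_iff] at hx
    have h2 := congrArg e (hx (e.symm u) (by
      change e (e.symm u) ∈ U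
      rw [MulEquiv.apply_symm_apply]
      exact hu))
    rw [map_mul, map_mul, MulEquiv.apply_symm_apply] at h2
    exact h2

/-- **in defining characteristic the characters of degree prime to `p` lie in the principal block** -/
theorem mem_b0 {p : ℕ} [Fact p.Prime] (hp2 : p ≠ 2) {X : Type} [Group X] [Finite X] [IsSimpleGroup X]
    (hna : ¬ IsMulCommutative X) (hX : IsLieTypeChar p X) {M : Ideal AlgInt} (hM : IsPModular p M)
    (χ : IrrCharacter X) (hχ : ¬ p ∣ charDegree (χ : X → ℂ)) : χ ∈ principalBlock M X := by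
  obtain ⟨U, hU, hC⟩ := exists_cent hp2 hna hX
  exact H684.Principal.mem_of_not_dvd hM hU hC χ hχ

theorem Wt.rowA {p : ℕ} [Fact p.Prime] (hp2 : p ≠ 2) {X : Type} [Group X] [Finite X] [IsSimpleGroup X]
    (hna : ¬ IsMulCommutative X) (hX : IsLieTypeChar p X) {A : Subgroup (MulAut X)} {θ : X → ℂ} (h : Wt p X A θ) :
    RowA p X A := by
  obtain ⟨h1, h2, ⟨d, h3, h3'⟩, h4, h5⟩ := h
  intro M hM
  have hd : ¬ p ∣ charDegree θ := by
    have h6 := Blocks.Basic.irr_one_eq_charDegree h1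
    rw [h3] at h6
    have h7 : d = charDegree θ := by exact_mod_cast h6
    rwa [← h7]
  exact ⟨⟨θ, h1⟩, ⟨mem_b0 hp2 hna hX hM _ hd, h2, hd, h4⟩, h5⟩

/-- **`OCRow` gives `RowT`** -/
theorem OCRow.rowT {p : ℕ} [Fact p.Prime] (hp2 : p ≠ 2) {X : Type} [Group X] [Finite X] [IsSimpleGroup X]
    (hna : ¬ IsMulCommutative X) (hX : IsLieTypeChar p X) (h : OCRow p X) : RowT p X := by
  intro A hA
  obtain ⟨θ, hθ⟩ := h A hA
  exact hθ.rowA hp2 hna hX

end Cfsg.Agent.H993.OC
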