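import Cfsg.Agent.H993.OC.Lie
import Cfsg.Agent.H936.RB.Psl2
import Cfsg.Agent.H269.OC.Psl
import Cfsg.Agent.H476.OC.Psu3
import Cfsg.Agent.H763.OC.Final
import Cfsg.Agent.H569.OC.Ree

/-!
# S4891, defining characteristic: the rows which are done (helper993)
-/

set_option autoImplicit false
open Cfsg
namespace Cfsg.Agent.H993.OC
open Cfsg.Agent.H145.BR

/-- **assembly**: PSL₂, PSL_n, PSU₃, the orthogonal groups and the Ree groups are done -/
theorem ocRows_of {p : ℕ} [Fact p.Prime] (hp2 : p ≠ 2)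
    (psp : ∀ (F : Type) [Field F] [Fintype F] [CharP F p] (m : ℕ), 2 ≤ m → OCRow p (PSp m F))
    (psu : ∀ (F : Type) [Field F] [Fintype F] [CharP F p] (n q : ℕ), Fintype.card F = q ^ 2 → 4 ≤ n →
      OCRow p (PSU n F q))
    (o8 : p = 3 → ∀ (F : Type) [Field F] [Fintype F] [CharP F p], OCRow p (POmega F (quadFormPlus 4 F)))
    (g2 : ∀ (F : Type) [Field F] [Fintype F] [CharP F p], 3 ≤ Fintype.card F → OCRow p (Lie.chevG2.group F))
    (f4 : ∀ (F : Type) [Field F] [Fintype F] [CharP F p], OCRow p (Lie.chevF4.group F))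
    (e6 : ∀ (F : Type) [Field F] [Fintype F] [CharP F p], OCRow p (Lie.chevE6.group F))
    (e7 : ∀ (F : Type) [Field F] [Fintype F] [CharP F p], OCRow p (Lie.chevE7.group F))
    (e8 : ∀ (F : Type) [Field F] [Fintype F] [CharP F p], OCRow p (Lie.chevE8.group F))
    (te6 : ∀ (K : Type) [Field K] [Fintype K] [CharP K p] (q : ℕ), IsPrimePow q → Fintype.card K = q ^ 2 →
      OCRow p (Lie.twistedE6 K q))
    (td4 : ∀ (K : Type) [Field K] [Fintype K] [CharP K p] (q : ℕ), IsPrimePow q → Fintype.card K = q ^ 3 →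
      OCRow p (Lie.twistedD4 K q)) : OCRows p where
  psl2 F _ _ _ h4 X _ _ _ e := H936.RB.row_psl2 hp2 h4 e
  psl F _ _ _ n hn := H269.OC.ocRow_psl hp2 hn
  psp := psp
  psu F _ _ _ n q hF hn := by
    by_cases h3 : n = 3
    · subst h3
      exact H476.OC.ocRow_psu3 hp2 hF
    · exact psu F n q hF (by omega)
  oodd F _ _ _ m hm := H763.OC.oodd hp2 F m hm
  oplus F _ _ _ m hm := by
    by_cases h4 : m = 4
    · subst h4
      by_cases h3 : p = 3
      · exact o8 h3 F
      · exact H763.OC.oplus_four hp2 h3 F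
    · exact H763.OC.oplus hp2 F m (by omega)
  ominus F _ _ _ m a b hm hab := H763.OC.ominus hp2 F m a b hm hab
  g2 := g2
  f4 := f4
  e6 := e6
  e7 := e7
  e8 := e8
  te6 := te6
  td4 := td4
  ree _ K _ _ m _ hK := H569.OC.ocRow_ree hK

end Cfsg.Agent.H993.OC
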