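import Cfsg.Agent.H993.OC.LieA
import Cfsg.Agent.H993.OC.F4
import Cfsg.Agent.H118.OC.Psu
import Cfsg.Agent.H985.OC.RowSpMain
import Cfsg.Agent.H798.Oc.Untw
import Cfsg.Agent.H932.OC.Tw

/-!
# S4891, defining characteristic: all rows (helper993)
-/

set_option autoImplicit false
open Cfsg
namespace Cfsg.Agent.H993.OC
open Cfsg.Agent.H145.BR

/-- **assembly** : everything is done except `PΩ₈⁺(3^f)` -/
theorem ocRows_of_o8 {p : ℕ} [Fact p.Prime] (hp2 : p ≠ 2)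
    (o8 : p = 3 → ∀ (F : Type) [Field F] [Fintype F] [CharP F p], OCRow p (POmega F (quadFormPlus 4 F))) :
    OCRows p :=
  ocRows_of hp2 (fun F _ _ _ _ hm => H985.OC.ocRow_psp hp2 F hm)
    (fun F _ _ _ n q hF hn => H118.OC.row_psu hp2 F n q hF hn) o8
    (fun F _ _ _ _ => H798.Oc.Untw.ocrow_G2 p hp2 F) (fun F _ _ _ => F4.ocRow_F4 p hp2 F)
    (fun F _ _ _ => H798.Oc.Untw.ocrow_E6 p hp2 F) (fun F _ _ _ => H798.Oc.Untw.ocrow_E7 p hp2 F)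
    (fun F _ _ _ => H798.Oc.Untw.ocrow_E8 p hp2 F)
    (fun _ _ _ _ _ _ hK => H932.OC.ocRow_twE6 hp2 hK) (fun _ _ _ _ _ _ hK => H932.OC.ocRow_twD4 hp2 hK)

/-- the field `lie`, `p ≥ 5` -/
theorem lie_of_ne_three {p : ℕ} [Fact p.Prime] (hp2 : p ≠ 2) (h3 : p ≠ 3) : RowFor p (fun X _ => IsLieTypeChar p X) :=
  (ocRows_of_o8 hp2 fun h => absurd h h3).lie hp2

end Cfsg.Agent.H993.OC
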